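import Mathlib

/-!
# Branch lengths of ideals of a curve singularity `R ⊆ k⟦t⟧^s` and its conductor
-/

universe u

open PowerSeries

namespace Groth.Agent.BranchLen

variable {k : Type u} [Field k] {s : ℕ}

theorem dvd_iff_order (n : ℕ) (f : PowerSeries k) : PowerSeries.X ^ n ∣ f ↔ (n : ℕ∞) ≤ f.order := by
  rw [PowerSeries.X_pow_dvd_iff]
  exact ⟨fun h => PowerSeries.le_order _ _ fun i hi => h i (by exact_mod_cast hi),
    fun h i hi => PowerSeries.coeff_of_lt_order i (lt_of_lt_of_le (by exact_mod_cast hi) h)⟩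

variable {R : Subalgebra k (Fin s → PowerSeries k)} {c : Fin s → ℕ}

theorem mem_of_order (hc : ∀ f : Fin s → PowerSeries k, (∀ g : Fin s → PowerSeries k, g * f ∈ R) ↔
      ∀ i, ((c i : ℕ) : ℕ∞) ≤ (f i).order) {f : Fin s → PowerSeries k}
    (hf : ∀ i, ((c i : ℕ) : ℕ∞) ≤ (f i).order) : f ∈ R := by
  simpa using (hc f).2 hf 1

open scoped Classical in
theorem mem_ideal_of_order (hc : ∀ f : Fin s → PowerSeries k, (∀ g : Fin s → PowerSeries k, g * f ∈ R) ↔
      ∀ i, ((c i : ℕ) : ℕ∞) ≤ (f i).order) (J : Ideal R) (l : Fin s → ℕ)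
    (hl : ∀ i : Fin s, ∃ f ∈ J, ((f : Fin s → PowerSeries k) i).order = ((l i : ℕ) : ℕ∞))
    (g : Fin s → PowerSeries k) (hg : ∀ i : Fin s, ((l i + c i : ℕ) : ℕ∞) ≤ (g i).order) :
    ∃ hgR : g ∈ R, (⟨g, hgR⟩ : R) ∈ J := by
  choose f hfJ hfo using hl
  have hex : ∀ i, ∃ h : PowerSeries k, g i = (f i : Fin s → PowerSeries k) i * h ∧ (c i : ℕ∞) ≤ h.order := by
    intro i
    obtain ⟨u, hu⟩ := (dvd_iff_order (l i) _).2 (hfo i).ge
    obtain ⟨v, hv⟩ := (dvd_iff_order (l i + c i) _).2 (hg i)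
    have huu : IsUnit u := by
      rw [PowerSeries.isUnit_iff_constantCoeff, isUnit_iff_ne_zero]
      intro h0
      have h1 : PowerSeries.X ^ (l i + 1) ∣ (f i : Fin s → PowerSeries k) i := by
        rw [hu, pow_succ]
        exact mul_dvd_mul_left _ (PowerSeries.X_dvd_iff.2 h0)
      have h2 := (dvd_iff_order _ _).1 h1
      rw [hfo i] at h2
      exact absurd (ENat.coe_le_coe.1 h2) (by omega)
    refine ⟨PowerSeries.X ^ c i * v * ((huu.unit⁻¹ : (PowerSeries k)ˣ) : PowerSeries k), ?_,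
      (dvd_iff_order _ _).1 ⟨v * ((huu.unit⁻¹ : (PowerSeries k)ˣ) : PowerSeries k), mul_assoc _ _ _⟩⟩
    rw [hv, hu, pow_add]
    linear_combination (-(PowerSeries.X ^ l i * PowerSeries.X ^ c i * v)) * huu.mul_val_inv
  choose h hh hord using hex
  have hR : ∀ i, (Pi.single i (h i) : Fin s → PowerSeries k) ∈ R := fun i => mem_of_order hc fun j => by
    rcases eq_or_ne j i with rfl | hj
    · rw [Pi.single_eq_same]; exact hord j
    · rw [Pi.single_eq_of_ne hj]; simp
  have hval : ((∑ i, f i * (⟨_, hR i⟩ : R) : R) : Fin s → PowerSeries k) = g := by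
    ext1 j
    rw [AddSubmonoidClass.coe_finsetSum, Finset.sum_apply, Finset.sum_eq_single j
      (fun i _ hi => by simp [Pi.single_eq_of_ne hi.symm]) (by simp)]
    simp [hh j]
  have hgR : g ∈ R := hval ▸ Subtype.coe_prop _
  refine ⟨hgR, ?_⟩
  rw [show (⟨g, hgR⟩ : R) = ∑ i, f i * (⟨_, hR i⟩ : R) from Subtype.ext hval.symm]
  exact J.sum_mem fun i _ => J.mul_mem_right _ (hfJ i)

theorem order_and_exists (I : Ideal R) (a : Fin s → ℕ)
    (ha : (∀ i : Fin s, Ideal.map ((Pi.evalAlgHom k (fun _ : Fin s => PowerSeries k) i).comp R.val) I =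
      Ideal.span {PowerSeries.X ^ (a i)})) :
    (∀ f ∈ I, ∀ i : Fin s, ((a i : ℕ) : ℕ∞) ≤ ((f : Fin s → PowerSeries k) i).order) ∧
      ∀ i, ∃ f ∈ I, ((f : Fin s → PowerSeries k) i).order = ((a i : ℕ) : ℕ∞) := by
  have h1 : ∀ f ∈ I, ∀ i : Fin s, ((a i : ℕ) : ℕ∞) ≤ ((f : Fin s → PowerSeries k) i).order := fun f hf i => by
    have h := Ideal.mem_map_of_mem ((Pi.evalAlgHom k (fun _ : Fin s => PowerSeries k) i).comp R.val) hf
    rw [ha i, Ideal.mem_span_singleton] at h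
    exact (dvd_iff_order _ _).1 h
  refine ⟨h1, fun i => ?_⟩
  by_contra hne
  push Not at hne
  have h : Ideal.map ((Pi.evalAlgHom k (fun _ : Fin s => PowerSeries k) i).comp R.val) I ≤
      Ideal.span {PowerSeries.X ^ (a i + 1)} := Ideal.map_le_iff_le_comap.2 fun f hf => by
    rw [Ideal.mem_comap, Ideal.mem_span_singleton]
    refine (dvd_iff_order _ _).2 ?_
    rcases (h1 f hf i).lt_or_eq with h | h
    · exact Order.add_one_le_of_lt h
    · exact absurd h.symm (hne f hf)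
  rw [ha i, Ideal.span_singleton_le_span_singleton] at h
  have h2 := (dvd_iff_order _ _).1 h
  rw [PowerSeries.order_X_pow] at h2
  exact absurd (ENat.coe_le_coe.1 h2) (by omega)

end Groth.Agent.BranchLen
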