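import Groth.Agent.BranchLen.Basic

/-!
# Colength bounds
-/

universe u

open PowerSeries

namespace Groth.Agent.BranchLen

variable (k : Type u) [Field k] {s : ℕ}

/-- Tuples divisible by `X^b`. -/
noncomputable def below (b : Fin s → ℕ) : (Fin s → PowerSeries k) →ₗ[k] ((i : Fin s) → Fin (b i) → k) :=
  LinearMap.pi fun i => LinearMap.pi fun l => (PowerSeries.coeff (l : ℕ)).comp (LinearMap.proj i)

theorem mem_ker_below (b : Fin s → ℕ) (f : Fin s → PowerSeries k) :
    f ∈ (below k b).ker ↔ ∀ i, ((b i : ℕ) : ℕ∞) ≤ (f i).order := by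
  simp only [← dvd_iff_order, PowerSeries.X_pow_dvd_iff, LinearMap.mem_ker, funext_iff]
  exact ⟨fun h i m hm => h i ⟨m, hm⟩, fun h i l => h i l l.2⟩

theorem below_surjective (b : Fin s → ℕ) : Function.Surjective (below k b) := fun w =>
  ⟨fun i => PowerSeries.mk fun m => if h : m < b i then w i ⟨m, h⟩ else 0, by
    ext i l; simp [below]⟩

theorem finrank_quot_below (b : Fin s → ℕ) :
    Module.Finite k ((Fin s → PowerSeries k) ⧸ (below k b).ker) ∧
      Module.finrank k ((Fin s → PowerSeries k) ⧸ (below k b).ker) = ∑ i, b i := by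
  let e := (below k b).quotKerEquivOfSurjective (below_surjective k b)
  refine ⟨Module.Finite.equiv e.symm, ?_⟩
  rw [e.finrank_eq, Module.finrank_pi_fintype]
  simp

variable {k}

theorem finrank_quot_tower {V : Type*} [AddCommGroup V] [Module k V] (R : Submodule k V) (I : Submodule k R)
    [Module.Finite k (V ⧸ I.map R.subtype)] :
    Module.finrank k (R ⧸ I) + Module.finrank k (V ⧸ R) = Module.finrank k (V ⧸ I.map R.subtype) := by
  let I' := I.map R.subtype
  let ψ : (R ⧸ I) →ₗ[k] V ⧸ I' := I.mapQ I' R.subtype (Submodule.le_comap_map _ _)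
  have hψ : Function.Injective ψ := by
    rw [← LinearMap.ker_eq_bot, eq_bot_iff]
    intro z hz
    obtain ⟨r, rfl⟩ := Submodule.Quotient.mk_surjective I z
    rw [LinearMap.mem_ker, Submodule.mapQ_apply, Submodule.Quotient.mk_eq_zero] at hz
    obtain ⟨r', hr', e⟩ := hz
    exact (Submodule.Quotient.mk_eq_zero I).2 (R.injective_subtype e ▸ hr')
  have hr : LinearMap.range ψ = R.map I'.mkQ := by
    rw [← LinearMap.range_comp_of_range_eq_top ψ I.range_mkQ, Submodule.mapQ_mkQ, LinearMap.range_comp,
      Submodule.range_subtype]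
  have hle : I' ≤ R := R.map_subtype_le I
  rw [← (Submodule.quotientQuotientEquivQuotient I' R hle).finrank_eq,
    ← LinearMap.finrank_range_of_inj hψ, hr, add_comm]
  exact Submodule.finrank_quotient_add_finrank _

theorem colength_bounds {R : Subalgebra k (Fin s → PowerSeries k)} {c : Fin s → ℕ}
    (hc : ∀ f : Fin s → PowerSeries k, (∀ g : Fin s → PowerSeries k, g * f ∈ R) ↔
      ∀ i, ((c i : ℕ) : ℕ∞) ≤ (f i).order) (I : Ideal R) (a : Fin s → ℕ)
    (ha : (∀ i : Fin s, Ideal.map ((Pi.evalAlgHom k (fun _ : Fin s => PowerSeries k) i).comp R.val) I =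
      Ideal.span {PowerSeries.X ^ (a i)})) :
    (∑ i, a i) ≤ Module.finrank k (↥R ⧸ I) + Module.finrank k ((Fin s → PowerSeries k) ⧸ Subalgebra.toSubmodule R) ∧
      Module.finrank k (↥R ⧸ I) + Module.finrank k ((Fin s → PowerSeries k) ⧸ Subalgebra.toSubmodule R) ≤
        (∑ i, a i) + ∑ i, c i ∧
      (R ≠ ⊤ → Module.finrank k (↥R ⧸ I) + Module.finrank k ((Fin s → PowerSeries k) ⧸ Subalgebra.toSubmodule R) <
        (∑ i, a i) + ∑ i, c i) := by
  obtain ⟨hlo, hex⟩ := order_and_exists I a ha
  let I₀ : Submodule k (Subalgebra.toSubmodule R) := I.restrictScalars k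
  let I' : Submodule k (Fin s → PowerSeries k) := I₀.map (Subalgebra.toSubmodule R).subtype
  obtain ⟨hfa, hna⟩ := finrank_quot_below k a
  obtain ⟨hfb, hnb⟩ := finrank_quot_below k fun i => a i + c i
  have hI'a : I' ≤ (below k a).ker := by
    rintro _ ⟨f, hf, rfl⟩
    exact (mem_ker_below k a _).2 (hlo f hf)
  have hbI' : (below k fun i => a i + c i).ker ≤ I' := fun g hg => by
    obtain ⟨hgR, hgI⟩ := mem_ideal_of_order hc I a hex g ((mem_ker_below k _ g).1 hg)
    exact ⟨⟨g, hgR⟩, hgI, rfl⟩
  haveI := hfb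
  haveI : Module.Finite k ((Fin s → PowerSeries k) ⧸ I') :=
    Module.Finite.of_surjective (Submodule.factor hbI') (Submodule.factor_surjective hbI')
  have htot : Module.finrank k (↥R ⧸ I) + Module.finrank k ((Fin s → PowerSeries k) ⧸ Subalgebra.toSubmodule R) =
      Module.finrank k ((Fin s → PowerSeries k) ⧸ I') :=
    finrank_quot_tower (Subalgebra.toSubmodule R) I₀
  rw [htot, ← Finset.sum_add_distrib, ← hnb, ← hna]
  refine ⟨LinearMap.finrank_le_finrank_of_surjective (f := Submodule.factor hI'a) (Submodule.factor_surjective hI'a),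
    LinearMap.finrank_le_finrank_of_surjective (f := Submodule.factor hbI') (Submodule.factor_surjective hbI'),
    fun hR => ?_⟩
  obtain ⟨i, hi⟩ : ∃ i, c i ≠ 0 := by
    by_contra! h
    exact hR (eq_top_iff.2 fun g _ => mem_of_order hc fun i => by simp [h i])
  obtain ⟨f, hf, hfo⟩ := hex i
  have hnot : (f : Fin s → PowerSeries k) ∉ (below k fun i => a i + c i).ker := fun h => by
    have := (mem_ker_below k _ _).1 h i
    rw [hfo] at this
    exact absurd (ENat.coe_le_coe.1 this) (by omega)
  have hlt : (below k fun i => a i + c i).ker < I' :=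
    lt_of_le_of_ne hbI' fun e => hnot (e.ge ⟨f, hf, rfl⟩)
  have h1 := Submodule.finrank_quotient_add_finrank
    ((I').map (below k fun i => a i + c i).ker.mkQ)
  rw [(Submodule.quotientQuotientEquivQuotient _ I' hbI').finrank_eq] at h1
  have h2 : 0 < Module.finrank k ↥((I').map (below k fun i => a i + c i).ker.mkQ) := by
    haveI : Module.Finite k ↥((I').map (below k fun i => a i + c i).ker.mkQ) := FiniteDimensional.finiteDimensional_submodule _
    rw [Module.finrank_pos_iff, Submodule.nontrivial_iff_ne_bot]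
    intro h
    rw [← le_bot_iff, Submodule.map_le_iff_le_comap, Submodule.comap_bot, Submodule.ker_mkQ] at h
    exact hlt.not_ge h
  omega

end Groth.Agent.BranchLen
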