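import Groth.Agent.BranchLen.Colength

/-!
# Multiplication by a uniformizer of one branch
-/

universe u

open PowerSeries

namespace Groth.Agent.BranchLen

variable {k : Type u} [Field k] {s : ℕ} {R : Subalgebra k (Fin s → PowerSeries k)} {c : Fin s → ℕ}

theorem map_eq_span (I : Ideal R) (a : Fin s → ℕ)
    (h1 : ∀ f ∈ I, ∀ i : Fin s, ((a i : ℕ) : ℕ∞) ≤ ((f : Fin s → PowerSeries k) i).order)
    (h2 : ∀ i, ∃ f ∈ I, ((f : Fin s → PowerSeries k) i).order = ((a i : ℕ) : ℕ∞)) (i : Fin s) :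
    Ideal.map ((Pi.evalAlgHom k (fun _ : Fin s => PowerSeries k) i).comp R.val) I =
      Ideal.span {PowerSeries.X ^ (a i)} := by
  refine le_antisymm (Ideal.map_le_iff_le_comap.2 fun f hf => ?_) ?_
  · rw [Ideal.mem_comap, Ideal.mem_span_singleton]
    exact (dvd_iff_order _ _).2 (h1 f hf i)
  · obtain ⟨f, hf, hfo⟩ := h2 i
    obtain ⟨u, hu⟩ := (dvd_iff_order (a i) _).2 hfo.ge
    have huu : IsUnit u := by
      rw [PowerSeries.isUnit_iff_constantCoeff, isUnit_iff_ne_zero]
      intro h0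
      have h3 : PowerSeries.X ^ (a i + 1) ∣ (f : Fin s → PowerSeries k) i := by
        rw [hu, pow_succ]
        exact mul_dvd_mul_left _ (PowerSeries.X_dvd_iff.2 h0)
      have h4 := (dvd_iff_order _ _).1 h3
      rw [hfo] at h4
      exact absurd (ENat.coe_le_coe.1 h4) (by omega)
    rw [Ideal.span_singleton_le_iff_mem, ← Ideal.unit_mul_mem_iff_mem _ huu, mul_comm, ← hu]
    exact Ideal.mem_map_of_mem _ hf

/-- The ideal as a subspace of all tuples. -/
noncomputable def sub (I : Ideal R) : Submodule k (Fin s → PowerSeries k) :=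
  Submodule.map (Subalgebra.toSubmodule R).subtype (I.restrictScalars k : Submodule k (Subalgebra.toSubmodule R))

theorem mem_sub (I : Ideal R) (g : Fin s → PowerSeries k) : g ∈ sub I ↔ ∃ f ∈ I, (f : Fin s → PowerSeries k) = g :=
  Iff.rfl

theorem total (hc : ∀ f : Fin s → PowerSeries k, (∀ g : Fin s → PowerSeries k, g * f ∈ R) ↔
      ∀ i, ((c i : ℕ) : ℕ∞) ≤ (f i).order) (I : Ideal R) (a : Fin s → ℕ)
    (ha : ∀ i : Fin s, Ideal.map ((Pi.evalAlgHom k (fun _ : Fin s => PowerSeries k) i).comp R.val) I =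
      Ideal.span {PowerSeries.X ^ (a i)}) :
    Module.Finite k (R ⧸ I) ∧ Module.Finite k ((Fin s → PowerSeries k) ⧸ sub I) ∧
      Module.finrank k (R ⧸ I) + Module.finrank k ((Fin s → PowerSeries k) ⧸ Subalgebra.toSubmodule R) =
        Module.finrank k ((Fin s → PowerSeries k) ⧸ sub I) := by
  obtain ⟨-, hex⟩ := order_and_exists I a ha
  obtain ⟨hfb, -⟩ := finrank_quot_below k fun i => a i + c i
  have hbI' : (below k fun i => a i + c i).ker ≤ sub I := fun g hg => by
    obtain ⟨hgR, hgI⟩ := mem_ideal_of_order hc I a hex g ((mem_ker_below k _ g).1 hg)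
    exact ⟨⟨g, hgR⟩, hgI, rfl⟩
  haveI := hfb
  haveI h2 : Module.Finite k ((Fin s → PowerSeries k) ⧸ sub I) :=
    Module.Finite.of_surjective (Submodule.factor hbI') (Submodule.factor_surjective hbI')
  let I₀ : Submodule k (Subalgebra.toSubmodule R) := I.restrictScalars k
  haveI : Module.Finite k ((Fin s → PowerSeries k) ⧸ I₀.map (Subalgebra.toSubmodule R).subtype) := h2
  let ψ : ((Subalgebra.toSubmodule R) ⧸ I₀) →ₗ[k] (Fin s → PowerSeries k) ⧸ I₀.map (Subalgebra.toSubmodule R).subtype :=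
    I₀.mapQ _ (Subalgebra.toSubmodule R).subtype (Submodule.le_comap_map _ _)
  have hψ : Function.Injective ψ := by
    rw [← LinearMap.ker_eq_bot, eq_bot_iff]
    intro z hz
    obtain ⟨r, rfl⟩ := Submodule.Quotient.mk_surjective I₀ z
    rw [LinearMap.mem_ker, Submodule.mapQ_apply, Submodule.Quotient.mk_eq_zero] at hz
    obtain ⟨r', hr', e⟩ := hz
    exact (Submodule.Quotient.mk_eq_zero I₀).2 (Subtype.ext e ▸ hr')
  exact ⟨Module.Finite.of_injective ψ hψ, h2, finrank_quot_tower (Subalgebra.toSubmodule R) I₀⟩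

/-- The uniformizer of the branch `j`. -/
noncomputable def xi (k : Type u) [Field k] {s : ℕ} (j : Fin s) : Fin s → PowerSeries k :=
  Pi.mulSingle j PowerSeries.X

theorem xi_mul_same (j : Fin s) (f : Fin s → PowerSeries k) : (xi k j * f) j = PowerSeries.X * f j := by
  simp [xi]

theorem xi_mul_ne {i j : Fin s} (h : i ≠ j) (f : Fin s → PowerSeries k) : (xi k j * f) i = f i := by
  simp [xi, h]

theorem xi_mul_injective (j : Fin s) : Function.Injective fun f : Fin s → PowerSeries k => xi k j * f := by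
  intro f g h
  funext i
  have := congrFun h i
  rcases eq_or_ne i j with rfl | hi
  · simp only [xi_mul_same] at this
    exact mul_left_cancel₀ PowerSeries.X_ne_zero this
  · simpa only [xi_mul_ne hi] using this

theorem order_xi_mul (j i : Fin s) (f : Fin s → PowerSeries k) :
    ((xi k j * f) i).order = (f i).order + ((if i = j then 1 else 0 : ℕ) : ℕ∞) := by
  rcases eq_or_ne i j with rfl | hi
  · rw [xi_mul_same, PowerSeries.order_mul, PowerSeries.order_X, if_pos rfl, add_comm]; rfl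
  · rw [xi_mul_ne hi, if_neg hi]; simp

theorem update_eq (a : Fin s → ℕ) (j i : Fin s) :
    Function.update a j (a j + 1) i = a i + if i = j then 1 else 0 := by
  rcases eq_or_ne i j with rfl | hi
  · simp
  · simp [hi]

/-- Multiplication by `xi`. -/
noncomputable def mulXi (k : Type u) [Field k] {s : ℕ} (j : Fin s) :
    (Fin s → PowerSeries k) →ₗ[k] (Fin s → PowerSeries k) :=
  LinearMap.mulLeft k (xi k j)

theorem finrank_quot_map (j : Fin s) (I : Submodule k (Fin s → PowerSeries k))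
    [Module.Finite k ((Fin s → PowerSeries k) ⧸ I.map (mulXi k j))] :
    Module.finrank k ((Fin s → PowerSeries k) ⧸ I.map (mulXi k j)) =
      Module.finrank k ((Fin s → PowerSeries k) ⧸ I) + 1 := by
  have hrange : LinearMap.range (mulXi k j) = (below k fun i => if i = j then 1 else 0).ker := by
    ext g
    rw [mem_ker_below]
    constructor
    · rintro ⟨f, rfl⟩ i
      show _ ≤ ((xi k j * f) i).order
      rw [order_xi_mul]
      exact le_add_self
    · intro h
      obtain ⟨q, hq⟩ := (dvd_iff_order 1 (g j)).2 (by simpa using h j)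
      refine ⟨Function.update g j q, ?_⟩
      funext i
      show (xi k j * Function.update g j q) i = g i
      rcases eq_or_ne i j with rfl | hi
      · rw [xi_mul_same, Function.update_self, hq, pow_one]
      · rw [xi_mul_ne hi, Function.update_of_ne hi]
  have h1 : Module.finrank k ((Fin s → PowerSeries k) ⧸ LinearMap.range (mulXi k j)) = 1 := by
    rw [hrange, (finrank_quot_below k _).2]
    simp
  let ψ : ((Fin s → PowerSeries k) ⧸ I) →ₗ[k] (Fin s → PowerSeries k) ⧸ I.map (mulXi k j) :=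
    I.mapQ _ (mulXi k j) (Submodule.le_comap_map _ _)
  have hψ : Function.Injective ψ := by
    rw [← LinearMap.ker_eq_bot, eq_bot_iff]
    intro z hz
    obtain ⟨r, rfl⟩ := Submodule.Quotient.mk_surjective I z
    rw [LinearMap.mem_ker, Submodule.mapQ_apply, Submodule.Quotient.mk_eq_zero] at hz
    obtain ⟨r', hr', e⟩ := hz
    exact (Submodule.Quotient.mk_eq_zero I).2 (xi_mul_injective j e ▸ hr')
  have hr : LinearMap.range ψ = (LinearMap.range (mulXi k j)).map (I.map (mulXi k j)).mkQ := by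
    rw [← LinearMap.range_comp_of_range_eq_top ψ I.range_mkQ, Submodule.mapQ_mkQ, LinearMap.range_comp]
  have := Submodule.finrank_quotient_add_finrank ((LinearMap.range (mulXi k j)).map (I.map (mulXi k j)).mkQ)
  rw [(Submodule.quotientQuotientEquivQuotient _ (LinearMap.range (mulXi k j)) LinearMap.map_le_range).finrank_eq,
    h1, ← hr, LinearMap.finrank_range_of_inj hψ] at this
  omega

theorem bijection (hc : ∀ f : Fin s → PowerSeries k, (∀ g : Fin s → PowerSeries k, g * f ∈ R) ↔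
      ∀ i, ((c i : ℕ) : ℕ∞) ≤ (f i).order) (j : Fin s) (a : Fin s → ℕ) (hj : c j ≤ a j) (I J : Ideal R)
    (h : sub J = (sub I).map (mulXi k j)) :
    ((∀ i : Fin s, Ideal.map ((Pi.evalAlgHom k (fun _ : Fin s => PowerSeries k) i).comp R.val) I =
        Ideal.span {PowerSeries.X ^ (a i)}) ↔
      (∀ i : Fin s, Ideal.map ((Pi.evalAlgHom k (fun _ : Fin s => PowerSeries k) i).comp R.val) J =
        Ideal.span {PowerSeries.X ^ ((Function.update a j (a j + 1)) i)})) ∧
    ((∀ i : Fin s, Ideal.map ((Pi.evalAlgHom k (fun _ : Fin s => PowerSeries k) i).comp R.val) I =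
        Ideal.span {PowerSeries.X ^ (a i)}) →
      Module.Finite k (R ⧸ I) ∧ Module.Finite k (R ⧸ J) ∧
        Module.finrank k (R ⧸ J) = Module.finrank k (R ⧸ I) + 1) := by
  have hIJ : ∀ f ∈ I, ∃ g ∈ J, (g : Fin s → PowerSeries k) = xi k j * (f : Fin s → PowerSeries k) := fun f hf => by
    have hm : xi k j * (f : Fin s → PowerSeries k) ∈ sub J := by
      rw [h]; exact ⟨f, ⟨f, hf, rfl⟩, rfl⟩
    exact (mem_sub J _).1 hm
  have hJI : ∀ g ∈ J, ∃ f ∈ I, (g : Fin s → PowerSeries k) = xi k j * (f : Fin s → PowerSeries k) := fun g hg => by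
    have hm : (g : Fin s → PowerSeries k) ∈ sub J := ⟨g, hg, rfl⟩
    rw [h] at hm
    obtain ⟨_, ⟨f, hf, rfl⟩, e⟩ := hm
    exact ⟨f, hf, e.symm⟩
  have key : (∀ i : Fin s, Ideal.map ((Pi.evalAlgHom k (fun _ : Fin s => PowerSeries k) i).comp R.val) I =
        Ideal.span {PowerSeries.X ^ (a i)}) →
      (∀ i : Fin s, Ideal.map ((Pi.evalAlgHom k (fun _ : Fin s => PowerSeries k) i).comp R.val) J =
        Ideal.span {PowerSeries.X ^ ((Function.update a j (a j + 1)) i)}) := by
    intro hI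
    obtain ⟨h1, h2⟩ := order_and_exists I a hI
    refine map_eq_span J _ (fun g hg i => ?_) fun i => ?_
    · obtain ⟨f, hf, e⟩ := hJI g hg
      rw [e, order_xi_mul, update_eq, Nat.cast_add]
      exact add_le_add_left (h1 f hf i) _
    · obtain ⟨f, hf, hfo⟩ := h2 i
      obtain ⟨g, hg, e⟩ := hIJ f hf
      refine ⟨g, hg, ?_⟩
      rw [e, order_xi_mul, update_eq, Nat.cast_add, hfo]
  refine ⟨⟨key, fun hJ => ?_⟩, fun hI => ?_⟩
  · obtain ⟨h1, h2⟩ := order_and_exists J _ hJ
    have cancel : ∀ (x : ℕ∞) (n e : ℕ), x + (e : ℕ∞) = ((n + e : ℕ) : ℕ∞) → x = n := by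
      intro x n e hx
      rw [Nat.cast_add] at hx
      exact WithTop.add_right_cancel (ENat.natCast_ne_top e) hx
    refine map_eq_span I _ (fun f hf i => ?_) fun i => ?_
    · obtain ⟨g, hg, e⟩ := hIJ f hf
      have := h1 g hg i
      rw [e, order_xi_mul, update_eq, Nat.cast_add] at this
      exact (ENat.add_le_add_iff_right (ENat.natCast_ne_top _)).1 this
    · obtain ⟨g, hg, hgo⟩ := h2 i
      obtain ⟨f, hf, e⟩ := hJI g hg
      rw [e, order_xi_mul, update_eq] at hgo
      exact ⟨f, hf, cancel _ _ _ hgo⟩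
  · obtain ⟨hfI, hsI, hI'⟩ := total hc I a hI
    obtain ⟨hfJ, hsJ, hJ'⟩ := total hc J _ (key hI)
    haveI : Module.Finite k ((Fin s → PowerSeries k) ⧸ (sub I).map (mulXi k j)) := h ▸ hsJ
    refine ⟨hfI, hfJ, ?_⟩
    rw [h, finrank_quot_map] at hJ'
    omega

theorem exists_mul (hc : ∀ f : Fin s → PowerSeries k, (∀ g : Fin s → PowerSeries k, g * f ∈ R) ↔
      ∀ i, ((c i : ℕ) : ℕ∞) ≤ (f i).order) (j : Fin s) (a : Fin s → ℕ) (hj : c j ≤ a j) (I : Ideal R)
    (hI : ∀ i : Fin s, Ideal.map ((Pi.evalAlgHom k (fun _ : Fin s => PowerSeries k) i).comp R.val) I =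
      Ideal.span {PowerSeries.X ^ (a i)}) :
    ∃ J : Ideal R, sub J = (sub I).map (mulXi k j) := by
  obtain ⟨h1, -⟩ := order_and_exists I a hI
  have hmem : ∀ f ∈ I, xi k j * (f : Fin s → PowerSeries k) ∈ R := fun f hf => by
    have hd : xi k j * (f : Fin s → PowerSeries k) - f ∈ R := mem_of_order hc fun i => by
      rw [Pi.sub_apply]
      rcases eq_or_ne i j with rfl | hi
      · rw [xi_mul_same, ← dvd_iff_order]
        exact dvd_sub (dvd_mul_of_dvd_right ((dvd_iff_order _ _).2 ((Nat.cast_le.2 hj).trans (h1 f hf i))) _)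
          ((dvd_iff_order _ _).2 ((Nat.cast_le.2 hj).trans (h1 f hf i)))
      · rw [xi_mul_ne hi, sub_self]; simp
    simpa using R.add_mem hd f.2
  refine ⟨{ carrier := {g : R | ∃ f ∈ I, (g : Fin s → PowerSeries k) = xi k j * (f : Fin s → PowerSeries k)}
            zero_mem' := ⟨0, I.zero_mem, by simp⟩
            add_mem' := ?_
            smul_mem' := ?_ }, ?_⟩
  · rintro g g' ⟨f, hf, e⟩ ⟨f', hf', e'⟩
    exact ⟨f + f', I.add_mem hf hf', by push_cast; rw [e, e', mul_add]⟩
  · rintro r g ⟨f, hf, e⟩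
    exact ⟨r * f, I.mul_mem_left r hf, by rw [smul_eq_mul]; push_cast; rw [e, mul_left_comm]⟩
  · ext g
    constructor
    · rintro ⟨g, ⟨f, hf, e⟩, rfl⟩
      exact ⟨f, ⟨f, hf, rfl⟩, e.symm⟩
    · rintro ⟨_, ⟨f, hf, rfl⟩, rfl⟩
      exact ⟨⟨_, hmem f hf⟩, ⟨f, hf, rfl⟩, rfl⟩

theorem exists_div (hc : ∀ f : Fin s → PowerSeries k, (∀ g : Fin s → PowerSeries k, g * f ∈ R) ↔
      ∀ i, ((c i : ℕ) : ℕ∞) ≤ (f i).order) (j : Fin s) (a : Fin s → ℕ) (hj : c j ≤ a j) (J : Ideal R)
    (hJ : ∀ i : Fin s, Ideal.map ((Pi.evalAlgHom k (fun _ : Fin s => PowerSeries k) i).comp R.val) J =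
      Ideal.span {PowerSeries.X ^ ((Function.update a j (a j + 1)) i)}) :
    ∃ I : Ideal R, sub J = (sub I).map (mulXi k j) := by
  obtain ⟨h1, -⟩ := order_and_exists J _ hJ
  have hdiv : ∀ g ∈ J, ∃ f : Fin s → PowerSeries k, f ∈ R ∧ (g : Fin s → PowerSeries k) = xi k j * f := fun g hg => by
    have ho := h1 g hg j
    rw [Function.update_self] at ho
    obtain ⟨q, hq⟩ := (dvd_iff_order _ _).2 ho
    let f : Fin s → PowerSeries k := Function.update (g : Fin s → PowerSeries k) j (PowerSeries.X ^ a j * q)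
    have hd : f - g ∈ R := mem_of_order hc fun i => by
      rw [Pi.sub_apply]
      rcases eq_or_ne i j with rfl | hi
      · rw [show f i = PowerSeries.X ^ a i * q from Function.update_self .., ← dvd_iff_order, hq]
        exact dvd_sub ((pow_dvd_pow _ hj).mul_right _) ((pow_dvd_pow _ (hj.trans (Nat.le_succ _))).mul_right _)
      · rw [show f i = (g : Fin s → PowerSeries k) i from Function.update_of_ne hi .., sub_self]; simp
    refine ⟨f, by simpa using R.add_mem hd g.2, funext fun i => ?_⟩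
    rcases eq_or_ne i j with rfl | hi
    · rw [xi_mul_same, show f i = PowerSeries.X ^ a i * q from Function.update_self .., hq, pow_succ]
      ring
    · rw [xi_mul_ne hi, show f i = (g : Fin s → PowerSeries k) i from Function.update_of_ne hi ..]
  refine ⟨{ carrier := {f : R | ∃ g ∈ J, (g : Fin s → PowerSeries k) = xi k j * (f : Fin s → PowerSeries k)}
            zero_mem' := ⟨0, J.zero_mem, by simp⟩
            add_mem' := ?_
            smul_mem' := ?_ }, ?_⟩
  · rintro f f' ⟨g, hg, e⟩ ⟨g', hg', e'⟩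
    exact ⟨g + g', J.add_mem hg hg', by push_cast; rw [e, e', mul_add]⟩
  · rintro r f ⟨g, hg, e⟩
    exact ⟨r * g, J.mul_mem_left r hg, by rw [smul_eq_mul]; push_cast; rw [e, mul_left_comm]⟩
  · ext x
    constructor
    · rintro ⟨g, hg, rfl⟩
      obtain ⟨f, hf, e⟩ := hdiv g hg
      exact ⟨f, ⟨⟨f, hf⟩, ⟨g, hg, e⟩, rfl⟩, e.symm⟩
    · rintro ⟨_, ⟨f, ⟨g, hg, e⟩, rfl⟩, rfl⟩
      exact ⟨g, hg, e⟩

end Groth.Agent.BranchLen
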